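import Groth.Prelude.Def_FrobAlg
import Mathlib

/-! The perfect closure of a ring with projective Frobenius. -/

set_option autoImplicit false
universe u v

open TensorProduct

namespace Groth.Agent.PerfTor31.PC

/-- `R` as the `n`-th stage of its perfect closure. -/
def Stage (p : ℕ) (n : ℕ) (R : Type u) : Type u := R

variable (p : ℕ) [hp : Fact p.Prime] (R : Type u) [CommRing R] [CharP R p]

instance (n : ℕ) : CommRing (Stage p n R) := inferInstanceAs (CommRing R)

/-- identity -/
def toStage (n : ℕ) : R ≃+* Stage p n R := RingEquiv.refl R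

noncomputable instance (n : ℕ) : Algebra R (Stage p n R) :=
  ((toStage p R n).toRingHom.comp (iterateFrobenius R p n)).toAlgebra

theorem algebraMap_stage (n : ℕ) (r : R) : algebraMap R (Stage p n R) r = toStage p R n (r ^ p ^ n) := rfl

theorem projective_trans {S : Type*} [CommRing S] [Algebra R S] [Module.Projective R S] {M : Type*} [AddCommGroup M]
    [Module S M] [Module R M] [IsScalarTower R S M] [Module.Projective S M] : Module.Projective R M := by
  classical
  obtain ⟨s, hs⟩ := Module.projective_def'.1 ‹Module.Projective S M›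
  have : Module.Projective R (M →₀ S) := Module.Projective.of_equiv' (finsuppLequivDFinsupp R).symm
  exact Module.Projective.of_split (s.restrictScalars R) ((Finsupp.linearCombination S _root_.id).restrictScalars R)
    (LinearMap.ext fun x => LinearMap.congr_fun hs x)

theorem projective_stage [Module.Projective R (FrobAlg.Twist p R)] : ∀ n, Module.Projective R (Stage p n R) := by
  intro n
  induction n with
  | zero =>
    exact Module.Projective.of_equiv' (LinearEquiv.ofBijective (Algebra.linearMap R (Stage p 0 R))
      ⟨fun a b h => by simpa [algebraMap_stage] using h,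
        fun x => ⟨(toStage p R 0).symm x, by simp [algebraMap_stage]⟩⟩)
  | succ n ih =>
    letI : Algebra (Stage p n R) (Stage p (n + 1) R) :=
      ((toStage p R (n + 1)).toRingHom.comp ((frobenius R p).comp (toStage p R n).symm.toRingHom)).toAlgebra
    have : IsScalarTower R (Stage p n R) (Stage p (n + 1) R) := IsScalarTower.of_algebraMap_eq fun r => by
      show toStage p R (n + 1) (r ^ p ^ (n + 1)) = toStage p R (n + 1) (((toStage p R n).symm (toStage p R n (r ^ p ^ n))) ^ p)
      rw [RingEquiv.symm_apply_apply, ← pow_mul, pow_succ]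
    let σ : R →+* Stage p n R := (toStage p R n).toRingHom
    let σ' : Stage p n R →+* R := (toStage p R n).symm.toRingHom
    letI : RingHomInvPair σ σ' := RingHomInvPair.of_ringEquiv (toStage p R n)
    letI : RingHomInvPair σ' σ := RingHomInvPair.symm σ σ'
    let e : FrobAlg.Twist p R ≃ₛₗ[σ] Stage p (n + 1) R :=
      { ((FrobAlg.toTwist p R).symm.trans (toStage p R (n + 1))).toAddEquiv with
        map_smul' := fun r x => by
          show toStage p R (n + 1) ((FrobAlg.toTwist p R).symm (FrobAlg.toTwist p R (r ^ p) * x)) =
            toStage p R (n + 1) (((toStage p R n).symm (toStage p R n r)) ^ p) * toStage p R (n + 1) ((FrobAlg.toTwist p R).symm x)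
          rw [map_mul, map_mul, RingEquiv.symm_apply_apply, RingEquiv.symm_apply_apply] }
    have : Module.Projective (Stage p n R) (Stage p (n + 1) R) := Module.Projective.of_equiv e
    exact projective_trans R (S := Stage p n R)

theorem frobenius_injective [Module.Projective R (FrobAlg.Twist p R)] : Function.Injective (frobenius R p) := by
  intro a b hab
  have : Module.FaithfullyFlat R (FrobAlg.Twist p R) := by
    refine Module.FaithfullyFlat.of_comap_surjective fun q => ?_
    refine ⟨⟨q.asIdeal.comap (FrobAlg.toTwist p R).symm.toRingHom, inferInstance⟩, PrimeSpectrum.ext ?_⟩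
    ext r
    show (FrobAlg.toTwist p R).symm (FrobAlg.toTwist p R (r ^ p)) ∈ q.asIdeal ↔ r ∈ q.asIdeal
    rw [RingEquiv.symm_apply_apply, q.2.pow_mem_iff_mem p hp.out.pos]
  apply FaithfulSMul.algebraMap_injective R (FrobAlg.Twist p R)
  exact congrArg (FrobAlg.toTwist p R) hab

theorem isReduced [Module.Projective R (FrobAlg.Twist p R)] : IsReduced R := ⟨fun x ⟨n, hn⟩ => by
  apply (frobenius_injective p R).iterate n
  have hle : n ≤ p ^ n := (n.lt_pow_self hp.out.one_lt).le
  rw [← coe_iterateFrobenius, iterateFrobenius_def, iterateFrobenius_def, zero_pow (pow_ne_zero _ hp.out.ne_zero)]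
  exact pow_eq_zero_of_le hle hn⟩

noncomputable local instance algPC : Algebra R (PerfectClosure R p) := (PerfectClosure.of R p).toAlgebra

theorem mk_injective [IsReduced R] (n : ℕ) : Function.Injective fun x : R => PerfectClosure.mk R p (n, x) :=
  fun _ _ h => (frobenius_inj R p).iterate n ((PerfectClosure.eq_iff R p _ _).1 h)

/-- stage `n → R'` -/
noncomputable def mkHom (n : ℕ) : Stage p n R →+* PerfectClosure R p :=
  (((frobeniusEquiv (PerfectClosure R p) p).symm : RingAut (PerfectClosure R p)) ^ n).toRingHom.comp
    ((PerfectClosure.of R p).comp (toStage p R n).symm.toRingHom)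

theorem pow_symm_mk (n : ℕ) : ∀ (m : ℕ) (x : R),
    (((frobeniusEquiv (PerfectClosure R p) p).symm : RingAut (PerfectClosure R p)) ^ n)
      (PerfectClosure.mk R p (m, x)) = PerfectClosure.mk R p (m + n, x) := by
  induction n with
  | zero => intro m x; rfl
  | succ n ih =>
    intro m x
    rw [pow_succ', RingAut.mul_apply, ih, RingEquiv.symm_apply_eq]
    show _ = PerfectClosure.mk R p (m + (n + 1), x) ^ p
    rw [← add_assoc]
    rw [PerfectClosure.mk_pow, PerfectClosure.mk_succ_pow]

theorem mkHom_apply (n : ℕ) (x : R) : mkHom p R n (toStage p R n x) = PerfectClosure.mk R p (n, x) :=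
  (pow_symm_mk p R n 0 x).trans (by rw [zero_add])

noncomputable local instance algStage (n : ℕ) : Algebra (Stage p n R) (PerfectClosure R p) := (mkHom p R n).toAlgebra

instance tower (n : ℕ) : IsScalarTower R (Stage p n R) (PerfectClosure R p) :=
  IsScalarTower.of_algebraMap_eq fun r => by
    show PerfectClosure.of R p r = mkHom p R n (toStage p R n (r ^ p ^ n))
    rw [mkHom_apply, PerfectClosure.of_apply]
    induction n with
    | zero => simp
    | succ n ih => rw [ih, pow_succ, pow_mul, PerfectClosure.mk_succ_pow]

/-- transition maps -/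
noncomputable def trans' (n d : ℕ) : Stage p n R →ₗ[R] Stage p (n + d) R where
  toFun x := toStage p R (n + d) ((toStage p R n).symm x ^ p ^ d)
  map_add' x y := by rw [map_add, add_pow_char_pow, map_add]
  map_smul' r x := by
    rw [RingHom.id_apply, Algebra.smul_def, Algebra.smul_def, algebraMap_stage, algebraMap_stage, map_mul, mul_pow,
      RingEquiv.symm_apply_apply, ← pow_mul, ← pow_add, map_mul]

theorem mk_trans (n d : ℕ) (x : R) : PerfectClosure.mk R p (n + d, x ^ p ^ d) = PerfectClosure.mk R p (n, x) := by
  induction d with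
  | zero => simp
  | succ d ih => rw [← add_assoc, pow_succ, pow_mul, PerfectClosure.mk_succ_pow, ih]

theorem flat [Module.Projective R (FrobAlg.Twist p R)] : Module.Flat R (PerfectClosure R p) := by
  have := isReduced p R
  rw [Module.Flat.iff_forall_isTrivialRelation]
  intro l f x hfx
  have hx : ∀ i, ∃ n y, x i = PerfectClosure.mk R p (n, y) := fun i => by
    obtain ⟨⟨n, y⟩, h⟩ := PerfectClosure.mk_surjective R p (x i)
    exact ⟨n, y, h.symm⟩
  choose n y hy using hx
  let N := Finset.univ.sup n
  let z : Fin l → Stage p N R := fun i => toStage p R N (y i ^ p ^ (N - n i))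
  let φ : Stage p N R →ₗ[R] PerfectClosure R p :=
    (IsScalarTower.toAlgHom R (Stage p N R) (PerfectClosure R p)).toLinearMap
  have hz : ∀ i, φ (z i) = x i := fun i => by
    show mkHom p R N (toStage p R N _) = _
    rw [mkHom_apply, hy]
    have hle : n i ≤ N := Finset.le_sup (Finset.mem_univ i)
    conv_lhs => rw [show N = n i + (N - n i) by omega]
    rw [show n i + (N - n i) - n i = N - n i by omega]
    exact mk_trans p R _ _ _
  have hinj : Function.Injective φ := fun a b hab => by
    obtain ⟨a, rfl⟩ := (toStage p R N).surjective a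
    obtain ⟨b, rfl⟩ := (toStage p R N).surjective b
    refine congrArg (toStage p R N) (mk_injective p R N ?_)
    show PerfectClosure.mk R p (N, a) = PerfectClosure.mk R p (N, b)
    rw [← mkHom_apply, ← mkHom_apply]
    exact hab
  have hrel : ∑ i, f i • z i = 0 := hinj (by
    rw [map_sum, map_zero, ← hfx]
    exact Finset.sum_congr rfl fun i _ => by rw [map_smul, hz])
  have := projective_stage p R N
  have hfl : Module.Flat R (Stage p N R) := inferInstance
  obtain ⟨k, a, w, h1, h2⟩ := (Module.Flat.iff_forall_isTrivialRelation (R := R) (M := Stage p N R)).1 hfl hrel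
  refine ⟨k, a, fun j => φ (w j), fun i => ?_, h2⟩
  rw [← hz i, h1 i, map_sum]
  simp only [map_smul]

theorem faithfullyFlat [Module.Projective R (FrobAlg.Twist p R)] : Module.FaithfullyFlat R (PerfectClosure R p) := by
  have := flat p R
  refine Module.FaithfullyFlat.of_comap_surjective fun q => ?_
  have : CharP (R ⧸ q.asIdeal) p := (CharP.charP_iff_prime_eq_zero hp.out).2 (by
    rw [← map_natCast (Ideal.Quotient.mk q.asIdeal), CharP.cast_eq_zero, map_zero])
  let K := FractionRing (R ⧸ q.asIdeal)
  have : CharP K p := charP_of_injective_algebraMap (IsFractionRing.injective (R ⧸ q.asIdeal) K) p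
  let g : R →+* PerfectClosure K p :=
    (PerfectClosure.of K p).comp ((algebraMap (R ⧸ q.asIdeal) K).comp (Ideal.Quotient.mk _))
  let G := PerfectClosure.lift R p (PerfectClosure K p) g
  refine ⟨⟨RingHom.ker G, RingHom.ker_isPrime G⟩, PrimeSpectrum.ext ?_⟩
  have hG : G.comp (PerfectClosure.of R p) = g := (PerfectClosure.lift R p (PerfectClosure K p)).left_inv g
  ext r
  show G (PerfectClosure.of R p r) = 0 ↔ r ∈ q.asIdeal
  rw [show G (PerfectClosure.of R p r) = g r from RingHom.congr_fun hG r]
  simp only [g, RingHom.comp_apply, map_eq_zero]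
  rw [IsFractionRing.to_map_eq_zero_iff, Ideal.Quotient.eq_zero_iff_mem]

variable [Module.Projective R (FrobAlg.Twist p R)]

theorem faithfullyFlat_stage (n : ℕ) : Module.FaithfullyFlat (Stage p n R) (PerfectClosure R p) := by
  rw [← RingHom.faithfullyFlat_algebraMap_iff]
  show (mkHom p R n).FaithfullyFlat
  refine RingHom.FaithfullyFlat.stableUnderComposition _ _ ?_ (RingHom.FaithfullyFlat.of_bijective ?_)
  swap
  · exact RingEquiv.bijective _
  refine RingHom.FaithfullyFlat.stableUnderComposition _ _ (RingHom.FaithfullyFlat.of_bijective ?_) ?_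
  · exact RingEquiv.bijective _
  have := faithfullyFlat p R
  exact RingHom.faithfullyFlat_algebraMap_iff.2 this

/-- An element of `R' ⊗ (Π Nᵢ)` vanishing in all `R' ⊗ Nᵢ` vanishes. -/
theorem injective_pi {ι : Type*} [DecidableEq ι] {N : ι → Type v} [∀ i, AddCommGroup (N i)] [∀ i, Module R (N i)]
    {P : Type v} [AddCommGroup P] [Module R P] (g : ∀ i, P →ₗ[R] N i) (hg : ∀ x, (∀ i, g i x = 0) → x = 0) :
    Function.Injective (LinearMap.pi fun i => (g i).lTensor (PerfectClosure R p)) := by
  classical
  rw [injective_iff_map_eq_zero]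
  intro z hz
  let φ : ∀ n, Stage p n R →ₗ[R] PerfectClosure R p := fun n =>
    (IsScalarTower.toAlgHom R (Stage p n R) (PerfectClosure R p)).toLinearMap
  obtain ⟨n, w, rfl⟩ : ∃ n w, (φ n).rTensor P w = z := by
    clear hz
    induction z using TensorProduct.induction_on with
    | zero => exact ⟨0, 0, map_zero _⟩
    | tmul a x =>
      obtain ⟨⟨n, y⟩, rfl⟩ := PerfectClosure.mk_surjective R p a
      refine ⟨n, toStage p R n y ⊗ₜ x, ?_⟩
      rw [LinearMap.rTensor_tmul]
      congr 1
      exact mkHom_apply p R n y
    | add a b ha hb =>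
      obtain ⟨n, w, rfl⟩ := ha
      obtain ⟨m, w', rfl⟩ := hb
      have key : ∀ a d, φ (a + d) ∘ₗ trans' p R a d = φ a := fun a d => LinearMap.ext fun x => by
        obtain ⟨x, rfl⟩ := (toStage p R a).surjective x
        show mkHom p R (a + d) (toStage p R (a + d) _) = mkHom p R a (toStage p R a x)
        rw [mkHom_apply, mkHom_apply, RingEquiv.symm_apply_apply, mk_trans]
      have mv : ∀ a (u : Stage p a R ⊗[R] P) M, a ≤ M → ∃ u', (φ M).rTensor P u' = (φ a).rTensor P u := by
        intro a u M hM
        obtain ⟨d, rfl⟩ := Nat.exists_eq_add_of_le hM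
        exact ⟨(trans' p R a d).rTensor P u, by rw [← LinearMap.comp_apply, ← LinearMap.rTensor_comp, key]⟩
      obtain ⟨u₁, h₁⟩ := mv n w (max n m) (le_max_left _ _)
      obtain ⟨u₂, h₂⟩ := mv m w' (max n m) (le_max_right _ _)
      exact ⟨max n m, u₁ + u₂, by rw [map_add, h₁, h₂]⟩
  suffices w = 0 by rw [this, map_zero]
  have := projective_stage p R n
  have := faithfullyFlat_stage p R n
  have hw : ∀ i, (g i).lTensor (Stage p n R) w = 0 := by
    intro i
    apply Module.FaithfullyFlat.tensorProduct_mk_injective (A := Stage p n R) (B := PerfectClosure R p)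
      (Stage p n R ⊗[R] N i)
    rw [map_zero]
    apply (AlgebraTensorModule.cancelBaseChange R (Stage p n R) (PerfectClosure R p) (PerfectClosure R p) (N i)).injective
    rw [map_zero]
    refine Eq.trans ?_ (congrFun hz i)
    show _ = (g i).lTensor _ ((φ n).rTensor P w)
    clear hz
    induction w using TensorProduct.induction_on with
    | zero => simp
    | tmul s x =>
      simp only [LinearMap.lTensor_tmul, LinearMap.rTensor_tmul, TensorProduct.mk_apply,
        AlgebraTensorModule.cancelBaseChange_tmul]
      rw [Algebra.smul_def, mul_one]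
      rfl
    | add a b ha hb => simp only [map_add, ha, hb]
  obtain ⟨s, hs⟩ := Module.projective_def'.1 (projective_stage p R n)
  have hsw : s.rTensor P w = 0 := by
    apply (TensorProduct.finsuppScalarLeft R P (Stage p n R)).injective
    rw [map_zero]
    refine Finsupp.ext fun j => hg _ fun i => ?_
    have key : ∀ u : (Stage p n R →₀ R) ⊗[R] P, g i (TensorProduct.finsuppScalarLeft R P (Stage p n R) u j) =
        TensorProduct.finsuppScalarLeft R (N i) (Stage p n R) ((g i).lTensor _ u) j := by
      intro u
      induction u using TensorProduct.induction_on with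
      | zero => simp
      | tmul a x => simp [TensorProduct.finsuppScalarLeft_apply_tmul_apply]
      | add a b ha hb => simp only [map_add, Finsupp.add_apply, ha, hb]
    rw [key, ← LinearMap.comp_apply, LinearMap.lTensor_comp_rTensor, ← LinearMap.rTensor_comp_lTensor,
      LinearMap.comp_apply, hw i, map_zero, map_zero]
    rfl
  have hid : (Finsupp.linearCombination R _root_.id).rTensor P (s.rTensor P w) = w := by
    rw [← LinearMap.comp_apply, ← LinearMap.rTensor_comp, hs, LinearMap.rTensor_id, LinearMap.id_apply]
  rw [← hid, hsw, map_zero]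

end Groth.Agent.PerfTor31.PC
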