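import Groth.Agent.PerfTor31.Twist
import Groth.Agent.LA18.TorFC
import Groth.Agent.TorMod7.Basic
import Mathlib

/-! Perfect rings of characteristic `p` are Tor-independent. -/

set_option autoImplicit false
universe u

open TensorProduct CategoryTheory CategoryTheory.Limits

namespace Groth.Agent.PerfTor31

variable {p : ℕ} [hp : Fact p.Prime] {A : Type u} [CommRing A]

section inj

variable {C P : Type u} [CommRing C] [Algebra A C] [CommRing P] [Algebra A P]

omit hp in
theorem cast_zero (h : (p : A) = 0) (R : Type u) [CommRing R] [Algebra A R] : (p : R) = 0 := by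
  rw [← map_natCast (algebraMap A R), h, map_zero]

/-- A perfect ideal stays an ideal after tensoring with a perfect ring. -/
theorem lTensor_injective (h : (p : A) = 0) (hA : Function.Bijective fun a : A => a ^ p)
    (hC : Function.Bijective fun c : C => c ^ p) (hP : Function.Bijective fun x : P => x ^ p)
    (I : Ideal P) (hI : ∀ x, x ^ p ∈ I → x ∈ I) :
    Function.Injective ((I.subtype.restrictScalars A).lTensor C) := by
  let M := C ⊗[A] I
  let T := C ⊗[A] P
  let act : T →ₐ[A] Module.End A M :=
    Algebra.TensorProduct.lift (Algebra.lsmul A A M : C →ₐ[A] Module.End A M)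
      ((Module.End.lTensorAlgHom A I C).comp (Algebra.lsmul A A I : P →ₐ[A] Module.End A I))
      fun c x => LinearMap.ext fun z => by
        induction z using TensorProduct.induction_on with
        | zero => simp
        | tmul a b =>
          show c • (a ⊗ₜ[A] (x • b) : M) = (c • a) ⊗ₜ[A] (x • b)
          rfl
        | add a b ha hb => simp only [map_add, ha, hb]
  letI : Module T M := Module.compHom M act.toRingHom
  let μ : M →ₗ[A] T := (I.subtype.restrictScalars A).lTensor C
  have htmul : ∀ (c d : C) (x : P) (a : I), (c ⊗ₜ[A] x : T) • (d ⊗ₜ[A] a : M) = (c * d) ⊗ₜ[A] (x • a) := by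
    intro c d x a
    show act (c ⊗ₜ x) (d ⊗ₜ a) = _
    simp only [act, Algebra.TensorProduct.lift_tmul]
    rfl
  have hμ : ∀ z w : M, μ z • w = μ w • z := by
    intro z w
    induction z using TensorProduct.induction_on with
    | zero => simp
    | tmul c a =>
      induction w using TensorProduct.induction_on with
      | zero => simp
      | tmul d b =>
        show ((c ⊗ₜ[A] (a : P)) : T) • (d ⊗ₜ[A] b : M) = ((d ⊗ₜ[A] (b : P)) : T) • (c ⊗ₜ[A] a : M)
        rw [htmul, htmul, mul_comm c d]
        congr 1
        exact Subtype.ext (mul_comm (a : P) b)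
      | add w w' hw hw' => rw [smul_add, map_add, add_smul, hw, hw']
    | add z z' hz hz' => rw [smul_add, map_add, add_smul, hz, hz']
  have hCp := cast_zero h C
  have hPp := cast_zero h P
  -- the Frobenius of `M` and its inverse
  have hpow : ∀ a : I, (a : P) ^ p ∈ I := fun a => I.pow_mem_of_mem a.2 _ hp.out.pos
  let rC := (Equiv.ofBijective _ hC).symm
  let rP := (Equiv.ofBijective _ hP).symm
  have erC : ∀ c, (rC c) ^ p = c := (Equiv.ofBijective _ hC).apply_symm_apply
  have erP : ∀ x, (rP x) ^ p = x := (Equiv.ofBijective _ hP).apply_symm_apply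
  have hrI : ∀ a : I, rP a ∈ I := fun a => hI _ (by rw [erP]; exact a.2)
  let φ : M →+ M := TensorProduct.liftAddHom
    (AddMonoidHom.mk' (fun c => AddMonoidHom.mk' (fun a : I => (c ^ p) ⊗ₜ[A] (⟨(a : P) ^ p, hpow a⟩ : I))
        fun a b => by
          rw [← TensorProduct.tmul_add]; congr 1; exact Subtype.ext (add_pow_p hPp (a : P) b))
      fun c d => AddMonoidHom.ext fun a => by
        simp only [AddMonoidHom.mk'_apply, AddMonoidHom.add_apply]
        rw [← TensorProduct.add_tmul, add_pow_p hCp])
    fun r c a => by
      simp only [AddMonoidHom.mk'_apply]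
      rw [show (r • c) ^ p = r ^ p • c ^ p from smul_pow r c p, TensorProduct.smul_tmul]
      congr 1
      exact Subtype.ext (smul_pow r (a : P) p).symm
  let rA := (Equiv.ofBijective _ hA).symm
  have erA : ∀ r, (rA r) ^ p = r := (Equiv.ofBijective _ hA).apply_symm_apply
  let ψ : M →+ M := TensorProduct.liftAddHom
    (AddMonoidHom.mk' (fun c => AddMonoidHom.mk' (fun a : I => (rC c) ⊗ₜ[A] (⟨rP a, hrI a⟩ : I))
        fun a b => by
          rw [← TensorProduct.tmul_add]; congr 1
          refine Subtype.ext (hP.1 ?_)
          show rP ((a : P) + b) ^ p = (rP (a : P) + rP (b : P)) ^ p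
          rw [add_pow_p hPp, erP, erP, erP])
      fun c d => AddMonoidHom.ext fun a => by
        simp only [AddMonoidHom.mk'_apply, AddMonoidHom.add_apply]
        rw [← TensorProduct.add_tmul]
        congr 1
        refine hC.1 ?_
        show rC (c + d) ^ p = (rC c + rC d) ^ p
        rw [add_pow_p hCp, erC, erC, erC])
    fun r c a => by
      simp only [AddMonoidHom.mk'_apply]
      rw [show rC (r • c) = rA r • rC c from hC.1 (by show rC (r • c) ^ p = (rA r • rC c) ^ p; rw [smul_pow, erA, erC, erC]),
        TensorProduct.smul_tmul]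
      congr 1
      exact Subtype.ext (hP.1 (by show (rA r • rP (a : P)) ^ p = rP (r • (a : P)) ^ p; rw [smul_pow, erA, erP, erP]))
  have hψ : ∀ z, ψ (φ z) = z := by
    intro z
    induction z using TensorProduct.induction_on with
    | zero => simp
    | tmul c a =>
      show rC (c ^ p) ⊗ₜ[A] (⟨rP ((a : P) ^ p), _⟩ : I) = _
      congr 1
      · exact hC.1 (erC _)
      · exact Subtype.ext (hP.1 (erP _))
    | add z w hz hw => rw [map_add, map_add, hz, hw]
  have hpT : (p : T) = 0 := cast_zero h T
  have hφ : ∀ z, φ z = μ z ^ (p - 1) • z := by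
    intro z
    induction z using TensorProduct.induction_on with
    | zero => simp
    | tmul c a =>
      have hn : p - 1 + 1 = p := Nat.sub_add_cancel hp.out.one_le
      show (c ^ p) ⊗ₜ[A] (⟨(a : P) ^ p, _⟩ : I) = ((c ⊗ₜ[A] (a : P)) : T) ^ (p - 1) • (c ⊗ₜ[A] a : M)
      rw [Algebra.TensorProduct.tmul_pow, htmul]
      congr 1
      · rw [← pow_succ, hn]
      · refine Subtype.ext ?_
        show (a : P) ^ p = (a : P) ^ (p - 1) * (a : P)
        rw [← pow_succ, hn]
    | add z w hz hw =>
      rw [map_add, hz, hw]
      exact (twist_add hpT μ.toAddMonoidHom hμ z w).symm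
  rw [injective_iff_map_eq_zero]
  intro z hz
  rw [← hψ z, hφ, show μ z = 0 from hz, zero_pow (by have := hp.out.two_le; omega), zero_smul, map_zero]

end inj

variable [CharP A p] (hA : Function.Bijective fun a : A => a ^ p)

section cover

variable (B : Type u) [CommRing B] [Algebra A B]

/-- `A[B]` -/
abbrev cover : Type u := MonoidAlgebra A B

/-- `A[B] → B` -/
noncomputable def coverMap : cover (A := A) B →ₐ[A] B := MonoidAlgebra.lift A B B (MonoidHom.id B)

theorem coverMap_surjective : Function.Surjective (coverMap (A := A) B) := fun b =>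
  ⟨MonoidAlgebra.single b 1, by simp [coverMap]⟩

variable {B}

include hA in
theorem cover_bijective (hB : Function.Bijective fun b : B => b ^ p) :
    Function.Bijective fun x : cover (A := A) B => x ^ p := by
  classical
  have hPp : (p : cover (A := A) B) = 0 := cast_zero (CharP.cast_eq_zero A p) _
  let F : cover (A := A) B →+ cover (A := A) B := AddMonoidHom.mk' (fun x => x ^ p) (add_pow_p hPp)
  let rA := (Equiv.ofBijective _ hA).symm
  let rB := (Equiv.ofBijective _ hB).symm
  have erA : ∀ r, (rA r) ^ p = r := (Equiv.ofBijective _ hA).apply_symm_apply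
  have erB : ∀ r, (rB r) ^ p = r := (Equiv.ofBijective _ hB).apply_symm_apply
  have hsingle : ∀ b a, (MonoidAlgebra.single b a : cover (A := A) B) ^ p = MonoidAlgebra.single (b ^ p) (a ^ p) :=
    fun b a => MonoidAlgebra.single_pow ..
  let G : cover (A := A) B →+ cover (A := A) B := (Finsupp.liftAddHom fun b => AddMonoidHom.mk'
    (fun a => (MonoidAlgebra.single (rB b) (rA a) : cover (A := A) B)) fun a a' => by
      rw [← MonoidAlgebra.single_add]
      congr 1
      refine hA.1 ?_
      show rA (a + a') ^ p = (rA a + rA a') ^ p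
      rw [add_pow_p (CharP.cast_eq_zero A p), erA, erA, erA]).comp MonoidAlgebra.coeffAddEquiv.toAddMonoidHom
  have hrA0 : rA 0 = 0 := hA.1 (by show rA 0 ^ p = 0 ^ p; rw [erA, zero_pow hp.out.ne_zero])
  have hG1 : ∀ x, G (F x) = x := by
    intro x
    induction x using MonoidAlgebra.induction_linear with
    | zero => simp
    | single b a =>
      show G ((MonoidAlgebra.single b a : cover (A := A) B) ^ p) = _
      rw [hsingle]
      simp [G, Finsupp.sum_single_index, hrA0, show rB (b ^ p) = b from hB.1 (erB _), show rA (a ^ p) = a from hA.1 (erA _)]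
    | add x y hx hy => rw [map_add, map_add, hx, hy]
  have hG2 : ∀ x, F (G x) = x := by
    intro x
    induction x using MonoidAlgebra.induction_linear with
    | zero => simp
    | single b a =>
      show (G (MonoidAlgebra.single b a)) ^ p = _
      simp [G, Finsupp.sum_single_index, hrA0, hsingle, erA, erB]
    | add x y hx hy => rw [map_add, map_add, hx, hy]
  exact ⟨fun x y hxy => by rw [← hG1 x, ← hG1 y]; exact congrArg G hxy, fun x => ⟨G x, hG2 x⟩⟩

theorem mem_ker_of_pow (hB : Function.Bijective fun b : B => b ^ p) {R : Type u} [CommRing R] [Algebra A R]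
    (π : R →ₐ[A] B) (x : R) (hx : x ^ p ∈ RingHom.ker π) : x ∈ RingHom.ker π := by
  rw [RingHom.mem_ker] at hx ⊢
  apply hB.1
  show π x ^ p = 0 ^ p
  rw [← map_pow, hx, zero_pow hp.out.ne_zero]

end cover

include hA in
theorem isZero_tor (n : ℕ) : ∀ (B C : Type u) [CommRing B] [CommRing C] [Algebra A B] [Algebra A C],
    (Function.Bijective fun b : B => b ^ p) → (Function.Bijective fun c : C => c ^ p) →
    IsZero (((Tor (ModuleCat.{u} A) (n + 1)).obj (ModuleCat.of A C)).obj (ModuleCat.of A B)) := by
  induction n with
  | zero =>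
    intro B C _ _ _ _ hB hC
    let π := coverMap (A := A) B
    rw [TorMod7.isZero_tor_one_iff_of_surjective (ModuleCat.of A C) π.toLinearMap (coverMap_surjective B)]
    have h := lTensor_injective (CharP.cast_eq_zero A p) hA hC (cover_bijective hA hB) (RingHom.ker π)
      (mem_ker_of_pow hB π)
    let e : LinearMap.ker π.toLinearMap ≃ₗ[A] RingHom.ker π :=
      { toFun := fun x => ⟨x.1, x.2⟩, invFun := fun x => ⟨x.1, x.2⟩, map_add' := fun _ _ => rfl,
        map_smul' := fun _ _ => rfl }
    rw [show (LinearMap.ker π.toLinearMap).subtype =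
      ((RingHom.ker π).subtype.restrictScalars A) ∘ₗ e.toLinearMap from rfl, LinearMap.lTensor_comp]
    exact h.comp (LinearEquiv.lTensor C e).injective
  | succ n ih =>
    intro B C _ _ _ _ hB hC
    refine LA18.isZero_tor_symm _ ?_
    let π := coverMap (A := A) B
    let P := cover (A := A) B
    let K := LinearMap.ker π.toLinearMap
    refine LA18.isZero_tor_right K.subtype π.toLinearMap (Submodule.subtype_injective _)
      (LinearMap.exact_subtype_ker_map _) (coverMap_surjective B) (ModuleCat.of A C) (n + 1) ?_
      (TorBal94.isZero_tor_of_flat_left P (ModuleCat.of A C) (n + 1))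
    -- the fibre product `A ×_B P`
    let S : Subalgebra A (A × P) :=
      AlgHom.equalizer ((Algebra.ofId A B).comp (AlgHom.fst A A P)) (π.comp (AlgHom.snd A A P))
    have hS : Function.Bijective fun s : S => s ^ p := by
      constructor
      · intro s t hst
        have h := congrArg Subtype.val hst
        exact Subtype.ext (Prod.ext (hA.1 (congrArg Prod.fst h))
          ((cover_bijective hA hB).1 (congrArg Prod.snd h)))
      · intro s
        obtain ⟨a, ha⟩ := hA.2 s.1.1
        obtain ⟨x, hx⟩ := (cover_bijective hA hB).2 s.1.2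
        refine ⟨⟨(a, x), hB.1 ?_⟩, Subtype.ext (Prod.ext ha hx)⟩
        show algebraMap A B a ^ p = π x ^ p
        rw [← map_pow, ← map_pow, show a ^ p = s.1.1 from ha, show x ^ p = s.1.2 from hx]
        exact s.2
    let i : K →ₗ[A] S :=
      { toFun := fun x => ⟨(0, x.1), show algebraMap A B 0 = π x.1 by rw [map_zero]; exact x.2.symm⟩
        map_add' := fun x y => Subtype.ext (Prod.ext (add_zero _).symm rfl)
        map_smul' := fun r x => Subtype.ext (Prod.ext (smul_zero r).symm rfl) }
    let r : S →ₗ[A] K :=
      LinearMap.codRestrict K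
        (((LinearMap.snd A A P) - (Algebra.linearMap A P).comp (LinearMap.fst A A P)).comp S.val.toLinearMap)
        fun s => by
          show π (s.1.2 - algebraMap A P s.1.1) = 0
          rw [map_sub, AlgHom.commutes, sub_eq_zero]
          exact s.2.symm
    have hri : ModuleCat.ofHom i ≫ ModuleCat.ofHom r = 𝟙 (ModuleCat.of A K) := by
      refine ModuleCat.hom_ext (LinearMap.ext fun x => Subtype.ext ?_)
      show x.1 - algebraMap A P 0 = x.1
      rw [map_zero, sub_zero]
    have hz := LA18.isZero_tor_symm _ (ih S C hS hC)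
    let T := (Tor (ModuleCat.{u} A) (n + 1)).flip.obj (ModuleCat.of A C)
    rw [IsZero.iff_id_eq_zero]
    show 𝟙 (T.obj (ModuleCat.of A K)) = 0
    rw [← T.map_id, ← hri, T.map_comp, (hz : IsZero (T.obj (ModuleCat.of A S))).eq_of_tgt (T.map (ModuleCat.ofHom i)) 0,
      zero_comp]

end Groth.Agent.PerfTor31
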