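import Mathlib

/-! The multiplication trick for perfect ideals. -/

set_option autoImplicit false
universe u v w

open TensorProduct

namespace Groth.Agent.PerfTor31

variable {p : ℕ} [hp : Fact p.Prime]

theorem add_pow_p {R : Type*} [CommRing R] (h : (p : R) = 0) (x y : R) : (x + y) ^ p = x ^ p + y ^ p := by
  obtain ⟨r, hr⟩ := exists_add_pow_prime_eq hp.out x y
  rw [hr, h, zero_mul, zero_mul, zero_mul, add_zero]

/-- If `μ : M → R` satisfies `μ x • y = μ y • x` then `x ↦ μ x ^ (p - 1) • x` is additive. -/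
theorem twist_add {R : Type*} {M : Type*} [CommRing R] [AddCommGroup M] [Module R M] (h : (p : R) = 0)
    (μ : M →+ R) (hμ : ∀ x y, μ x • y = μ y • x) (x y : M) :
    μ (x + y) ^ (p - 1) • (x + y) = μ x ^ (p - 1) • x + μ y ^ (p - 1) • y := by
  open MvPolynomial in
  let U : MvPolynomial (Fin 2) (ZMod p) := X 0
  let V : MvPolynomial (Fin 2) (ZMod p) := X 1
  obtain ⟨G, hG⟩ : V ∣ (U + V) ^ (p - 1) - U ^ (p - 1) := by
    have := sub_dvd_pow_sub_pow (U + V) U (p - 1)
    rwa [add_sub_cancel_left] at this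
  have hn : p - 1 + 1 = p := Nat.sub_add_cancel hp.out.one_le
  have hkey : U * G + (U + V) ^ (p - 1) = V ^ (p - 1) := by
    refine mul_left_cancel₀ (MvPolynomial.X_ne_zero 1 : V ≠ 0) ?_
    have h1 : V * (U * G + (U + V) ^ (p - 1)) = (U + V) ^ (p - 1 + 1) - U ^ (p - 1 + 1) := by
      rw [mul_add, mul_left_comm, ← hG, pow_succ, pow_succ]
      ring
    rw [h1, ← pow_succ', hn, add_pow_p (by rw [← map_natCast (MvPolynomial.C (σ := Fin 2) (R := ZMod p)), ZMod.natCast_self, map_zero])]
    ring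
  let e : MvPolynomial (Fin 2) (ZMod p) →+* R :=
    MvPolynomial.eval₂Hom (ZMod.castHom ((ringChar.spec R p).1 h) R) ![μ x, μ y]
  have heU : e U = μ x := by simp [e, U]
  have heV : e V = μ y := by simp [e, V]
  have hG' := congrArg e hG
  have hk' := congrArg e hkey
  simp only [map_sub, map_mul, map_add, map_pow, heU, heV] at hG' hk'
  rw [map_add, smul_add, ← hk', add_smul _ _ y, ← add_assoc]
  congr 1
  rw [eq_add_of_sub_eq' hG', add_smul, add_right_inj, mul_comm (μ y), mul_comm (μ x), mul_smul, mul_smul, hμ x y]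

end Groth.Agent.PerfTor31
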